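import Groth.Agent.CechRes.Thin
import Groth.Agent.Coherent.DevissageIdeal
import Groth.Agent.Coherent.FiniteType
import Groth.Prelude.Def_CechOX

/-!
# The Cech complex of sheaves is a resolution
-/

set_option autoImplicit false
set_option backward.isDefEq.respectTransparency false
set_option linter.style.haveILetI false

universe u

open CategoryTheory CategoryTheory.Limits AlgebraicGeometry Opposite TopologicalSpace
open Groth.Agent.Coherent Groth.Agent.SiteCoh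

namespace Groth.Agent.CechRes

noncomputable section

variable {X : Scheme.{u}}

/-- Sections over an open. -/
abbrev secF (V : X.Opens) : X.Modules ⥤ AddCommGrpCat.{u} :=
  Scheme.Modules.toPresheaf X ⋙ (evaluation _ _).obj (op V)

instance additive_secF (V : X.Opens) : (secF V).Additive where
  map_add := rfl

instance preservesLimitsOfShape_secF (V : X.Opens) (J : Type u) [SmallCategory J] :
    PreservesLimitsOfShape J (secF V) :=
  haveI : PreservesLimitsOfShape J (Scheme.Modules.toPresheaf X) := inferInstance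
  haveI : HasLimitsOfShape J AddCommGrpCat.{u} := inferInstance
  haveI : PreservesLimitsOfShape J ((evaluation (TopologicalSpace.Opens X)ᵒᵖ AddCommGrpCat.{u}).obj (op V)) :=
    evaluation_preservesLimitsOfShape _
  comp_preservesLimitsOfShape _ _

section Local

theorem exact_of_local_sections (S : ShortComplex X.Modules)
    (h : ∀ (W : X.Opens) (s : Γ(S.X₂, W)), S.g.app W s = 0 → ∀ y ∈ W,
      ∃ (W' : X.Opens) (hW : W' ≤ W), y ∈ W' ∧ ∃ t : Γ(S.X₁, W'), S.f.app W' t = resM S.X₂ hW s) :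
    S.Exact := by
  rw [S.exact_iff_epi_kernel_lift]
  refine epi_of_locally_surjective _ fun W a y hy => ?_
  have ha : S.g.app W ((kernel.ι S.g).app W a) = 0 :=
    ConcreteCategory.congr_hom (congrArg (fun φ : kernel S.g ⟶ S.X₃ => φ.app W) (kernel.condition S.g)) a
  obtain ⟨W', hW, hy', t, ht⟩ := h W _ ha y hy
  refine ⟨W', hW, hy', t, ?_⟩
  haveI : PreservesFiniteLimits (secF W') :=
    preservesFiniteLimits_of_preservesFiniteLimitsOfSize _ fun J _ _ => inferInstance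
  haveI : Mono ((secF W').map (kernel.ι S.g)) := inferInstance
  refine (AddCommGrpCat.mono_iff_injective ((secF W').map (kernel.ι S.g))).1 inferInstance ?_
  refine Eq.trans ?_ (app_resM (kernel.ι S.g) hW a).symm
  refine Eq.trans ?_ ht
  exact ConcreteCategory.congr_hom (congrArg (fun φ : S.X₁ ⟶ S.X₂ => φ.app W') (kernel.lift_ι S.g S.f S.zero)) t

end Local

variable {ι : Type u} (𝒰 : ι → X.Opens) (F : X.Modules) (V : X.Opens)

/-- The presheaf of sections over `V` of the family `W ↦ j_*(F|_W)`. -/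
abbrev famV : X.Opensᵒᵖ ⥤ AddCommGrpCat.{u} := CechOX.pushRestrFam.flip.obj F ⋙ secF V

/-- The components of the augmentation. -/
def augV {p : ℕ} (a : Fin (p + 1) → ι) : (secF V).obj F ⟶ (famV F V).obj (op (Cech.inter 𝒰 a)) :=
  (secF V).map ((Scheme.Modules.restrictAdjunction (∏ᶜ (𝒰 ∘ a)).ι).unit.app F)

theorem unit_pushRestrMapApp {W W' : X.Opens} (h : W' ≤ W) (F : X.Modules) :
    (Scheme.Modules.restrictAdjunction W.ι).unit.app F ≫ CechOX.pushRestrMapApp h F =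
      (Scheme.Modules.restrictAdjunction W'.ι).unit.app F :=
  Scheme.Modules.hom_ext _ _ fun V => ConcreteCategory.hom_ext _ _ fun s =>
    resM_resM F (W.ι.image_preimage_le V) (CechOX.image_preimage_mono h V) s

theorem augV_face {p : ℕ} (a : Fin (p + 2) → ι) (j : Fin (p + 2)) :
    augV 𝒰 F V (a ∘ j.succAbove) ≫ (famV F V).map (Cech.face 𝒰 a j).op = augV 𝒰 F V a :=
  ((secF V).map_comp _ _).symm.trans
    (congrArg (secF V).map (unit_pushRestrMapApp (leOfHom (Cech.face 𝒰 a j)) F))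

theorem image_preimage_eq (W : X.Opens) : W.ι ''ᵁ (W.ι ⁻¹ᵁ V) = W ⊓ V := by
  rw [Scheme.Hom.image_preimage_eq_opensRange_inf, Scheme.Opens.opensRange_ι]

theorem bijective_famV_map {W W' : X.Opens} (h : W' ≤ W) (e : W ⊓ V ≤ W') :
    Function.Bijective ((famV F V).map (homOfLE h).op) := by
  refine resM_bijective_of_eq F (CechOX.image_preimage_mono h V) (le_antisymm ?_ (CechOX.image_preimage_mono h V))
  rw [image_preimage_eq, image_preimage_eq]
  exact le_inf e inf_le_right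

theorem bijective_augV {p : ℕ} (a : Fin (p + 1) → ι) (h : ∀ k, V ≤ 𝒰 (a k)) :
    Function.Bijective (augV 𝒰 F V a) := by
  refine resM_bijective_of_eq F ((∏ᶜ (𝒰 ∘ a) : X.Opens).ι.image_preimage_le V) ?_
  rw [image_preimage_eq]
  refine le_antisymm (le_inf ?_ le_rfl) inf_le_right
  exact leOfHom (Pi.lift fun k => homOfLE (h k) : V ⟶ ∏ᶜ (𝒰 ∘ a))

theorem bijective_tailPi {i₀ : ι} (hV : V ≤ 𝒰 i₀) {p : ℕ} (a : Fin (p + 1) → ι) :
    Function.Bijective ((famV F V).map (tailPi 𝒰 i₀ a).op) := by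
  refine bijective_famV_map F V (leOfHom (tailPi 𝒰 i₀ a)) ?_
  refine leOfHom (Pi.lift fun k => homOfLE ?_ : Cech.inter 𝒰 a ⊓ V ⟶ Cech.inter 𝒰 (Fin.cons i₀ a : Fin (p + 2) → ι))
  cases k using Fin.cases with
  | zero => exact inf_le_right.trans hV
  | succ k => exact inf_le_left.trans (leOfHom (Pi.π (fun k => 𝒰 (a k)) k))

/-- The components of sections of the Cech complex of sheaves. -/
abbrev proj {p : ℕ} (a : Fin (p + 1) → ι) :
    ((CechOX.cechSh 𝒰).obj F).X p ⟶ (CechOX.pushRestrFam.flip.obj F).obj (op (Cech.inter 𝒰 a)) :=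
  Pi.π (fun i : Fin (p + 1) → ι => (CechOX.pushRestrFam.flip.obj F).obj (op (Cech.inter 𝒰 i))) a

theorem d_proj (p : ℕ) (a : Fin (p + 2) → ι) :
    ((CechOX.cechSh 𝒰).obj F).d p (p + 1) ≫ proj 𝒰 F a =
      ∑ j : Fin (p + 2), (-1 : ℤ) ^ (j : ℕ) •
        (proj 𝒰 F (a ∘ j.succAbove) ≫ (CechOX.pushRestrFam.flip.obj F).map (Cech.face 𝒰 a j).op) := by
  have hd : ((CechOX.cechSh 𝒰).obj F).d p (p + 1) = AlgebraicTopology.AlternatingCofaceMapComplex.objD
      (((FormalCoproduct.cosimplicialObjectFunctor (FormalCoproduct.mk _ 𝒰).cech)).obj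
        (CechOX.pushRestrFam.flip.obj F)) p := by
    show (AlgebraicTopology.AlternatingCofaceMapComplex.obj
      (((FormalCoproduct.cosimplicialObjectFunctor (FormalCoproduct.mk _ 𝒰).cech)).obj
        (CechOX.pushRestrFam.flip.obj F))).d p (p + 1) = _
    dsimp only [AlgebraicTopology.AlternatingCofaceMapComplex.obj]
    exact CochainComplex.of_d _ _ p
  rw [hd, AlgebraicTopology.AlternatingCofaceMapComplex.objD]
  erw [Preadditive.sum_comp]
  refine Finset.sum_congr rfl fun j _ => ?_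
  erw [Preadditive.zsmul_comp]
  refine congrArg (fun z => (-1 : ℤ) ^ (j : ℕ) • z) ?_
  exact Pi.lift_π _ a

/-- Sections of the Cech complex of sheaves as Cech cochains. -/
def toCx (p : ℕ) : (secF V).obj (((CechOX.cechSh 𝒰).obj F).X p) →+ (Cech.cx (famV F V) 𝒰).X p where
  toFun s := Cech.mk (famV F V) 𝒰 fun a => (secF V).map (proj 𝒰 F a) s
  map_zero' := Cech.ext _ _ fun a => by rw [Cech.ev_mk, map_zero, map_zero]
  map_add' s t := Cech.ext _ _ fun a => by rw [map_add, Cech.ev_mk, Cech.ev_mk, Cech.ev_mk, map_add]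

theorem ev_toCx {p : ℕ} (s : (secF V).obj (((CechOX.cechSh 𝒰).obj F).X p)) (a : Fin (p + 1) → ι) :
    Cech.ev (famV F V) 𝒰 a (toCx 𝒰 F V p s) = (secF V).map (proj 𝒰 F a) s :=
  Cech.ev_mk _ _ _ _

theorem bijective_toCx (p : ℕ) : Function.Bijective (toCx 𝒰 F V p) := by
  haveI : PreservesLimitsOfShape (Discrete (Fin (p + 1) → ι)) (secF V) := inferInstance
  let f : (Fin (p + 1) → ι) → X.Modules := fun i => (CechOX.pushRestrFam.flip.obj F).obj (op (Cech.inter 𝒰 i))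
  have hc : ∀ (a : Fin (p + 1) → ι) (s : (secF V).obj (∏ᶜ f)),
      Pi.π (fun i => (secF V).obj (f i)) a ((PreservesProduct.iso (secF V) f).hom s) = (secF V).map (Pi.π f a) s :=
    fun a s => by
    rw [← ConcreteCategory.comp_apply, PreservesProduct.iso_hom, piComparison_comp_π]
  refine ⟨fun s t h => ?_, fun c => ?_⟩
  · refine (ConcreteCategory.bijective_of_isIso (PreservesProduct.iso (secF V) f).hom).1 (Cech.prod_ext fun a => ?_)
    refine (hc a s).trans (Eq.trans ?_ (hc a t).symm)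
    exact (ev_toCx 𝒰 F V s a).symm.trans ((congrArg _ h).trans (ev_toCx 𝒰 F V t a))
  · obtain ⟨s, hs⟩ := (ConcreteCategory.bijective_of_isIso (PreservesProduct.iso (secF V) f).hom).2 c
    refine ⟨s, Cech.ext _ _ fun a => ?_⟩
    refine (ev_toCx 𝒰 F V s a).trans ((hc a s).symm.trans ?_)
    rw [hs]
    rfl

theorem toCx_d (p : ℕ) (s : (secF V).obj (((CechOX.cechSh 𝒰).obj F).X p)) :
    toCx 𝒰 F V (p + 1) ((secF V).map (((CechOX.cechSh 𝒰).obj F).d p (p + 1)) s) =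
      (Cech.cx (famV F V) 𝒰).d p (p + 1) (toCx 𝒰 F V p s) := by
  refine Cech.ext _ _ fun a => ?_
  rw [ev_toCx, Cech.ev_d, ← ConcreteCategory.comp_apply, ← Functor.map_comp, d_proj, Functor.map_sum]
  let Φ : ((secF V).obj (((CechOX.cechSh 𝒰).obj F).X p) ⟶ (famV F V).obj (op (Cech.inter 𝒰 a))) →+
      (famV F V).obj (op (Cech.inter 𝒰 a)) := AddMonoidHom.mk' (fun g => g s) fun _ _ => rfl
  refine (map_sum Φ _ _).trans (Finset.sum_congr rfl fun j _ => ?_)
  rw [Functor.map_zsmul, map_zsmul, Functor.map_comp, ev_toCx]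
  rfl

theorem toCx_aug (t : (secF V).obj F) (a : Fin 1 → ι) :
    Cech.ev (famV F V) 𝒰 a (toCx 𝒰 F V 0 ((secF V).map (CechOX.cechShAug 𝒰 F) t)) = augV 𝒰 F V a t := by
  rw [ev_toCx, ← ConcreteCategory.comp_apply, ← Functor.map_comp]
  refine ConcreteCategory.congr_hom (congrArg (secF V).map ?_) t
  exact Pi.lift_π _ a

omit V in
theorem aug_d : CechOX.cechShAug 𝒰 F ≫ ((CechOX.cechSh 𝒰).obj F).d 0 1 = 0 := by
  refine Scheme.Modules.hom_ext _ _ fun V => ConcreteCategory.hom_ext _ _ fun t => ?_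
  refine (bijective_toCx 𝒰 F V 1).1 ?_
  refine Eq.trans ?_ (map_zero _).symm
  refine (toCx_d 𝒰 F V 0 _).trans (Cech.ext _ _ fun a => ?_)
  rw [Cech.ev_d, map_zero, Fin.sum_univ_two]
  erw [toCx_aug, toCx_aug]
  erw [← ConcreteCategory.comp_apply, ← ConcreteCategory.comp_apply, augV_face, augV_face]
  simp

omit V in
theorem mono_aug (h𝒰 : ⨆ i, 𝒰 i = ⊤) : Mono (CechOX.cechShAug 𝒰 F) := by
  refine mono_of_sections_injective (CechOX.cechShAug 𝒰 F) fun W => (injective_iff_map_eq_zero _).2 fun t ht => ?_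
  refine TopCat.Presheaf.section_ext ⟨F.presheaf, F.isSheaf⟩ W t 0 fun y hy => ?_
  obtain ⟨i, hi⟩ := Opens.mem_iSup.1 (h𝒰.ge (Opens.mem_top y))
  have h1 : resM F (inf_le_left : W ⊓ 𝒰 i ≤ W) t = 0 := by
    refine (bijective_augV 𝒰 F (W ⊓ 𝒰 i) (fun _ : Fin 1 => i) fun _ => inf_le_right).1 ?_
    rw [map_zero, ← toCx_aug]
    have h0 : (secF (W ⊓ 𝒰 i)).map (CechOX.cechShAug 𝒰 F) (resM F (inf_le_left : W ⊓ 𝒰 i ≤ W) t) = 0 := by
      refine (app_resM (CechOX.cechShAug 𝒰 F) (inf_le_left : W ⊓ 𝒰 i ≤ W) t).trans ?_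
      rw [ht, map_zero]
    rw [h0, map_zero, map_zero]
  rw [map_zero]
  refine Eq.trans ?_ ((congrArg (F.presheaf.germ (W ⊓ 𝒰 i) y ⟨hy, hi⟩) h1).trans (map_zero _))
  exact (TopCat.Presheaf.germ_res_apply F.presheaf (homOfLE inf_le_left) y ⟨hy, hi⟩ t).symm

omit V in
theorem exact_aug (h𝒰 : ⨆ i, 𝒰 i = ⊤) :
    (ShortComplex.mk (CechOX.cechShAug 𝒰 F) (((CechOX.cechSh 𝒰).obj F).d 0 1) (aug_d 𝒰 F)).Exact := by
  refine exact_of_local_sections _ fun W s hs y hy => ?_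
  obtain ⟨i, hi⟩ := Opens.mem_iSup.1 (h𝒰.ge (Opens.mem_top y))
  refine ⟨W ⊓ 𝒰 i, inf_le_left, ⟨hy, hi⟩, ?_⟩
  let s' := resM (((CechOX.cechSh 𝒰).obj F).X 0) (inf_le_left : W ⊓ 𝒰 i ≤ W) s
  have hs' : (secF (W ⊓ 𝒰 i)).map (((CechOX.cechSh 𝒰).obj F).d 0 1) s' = 0 := by
    refine (app_resM (((CechOX.cechSh 𝒰).obj F).d 0 1) (inf_le_left : W ⊓ 𝒰 i ≤ W) s).trans ?_
    rw [hs, map_zero]
  obtain ⟨t, ht⟩ := exists_aug_eq (famV F (W ⊓ 𝒰 i)) 𝒰 i (bijective_tailPi 𝒰 F _ inf_le_right)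
    (fun a => augV 𝒰 F (W ⊓ 𝒰 i) a) (augV_face 𝒰 F _) (bijective_augV 𝒰 F _ _ fun _ => inf_le_right)
    (toCx 𝒰 F _ 0 s') (by rw [← toCx_d, hs', map_zero])
  refine ⟨t, (bijective_toCx 𝒰 F _ 0).1 (Cech.ext _ _ fun a => ?_)⟩
  exact (toCx_aug 𝒰 F _ t a).trans (ht a)

omit V in
theorem isZero_homology (h𝒰 : ⨆ i, 𝒰 i = ⊤) (p : ℕ) :
    IsZero (((CechOX.cechSh 𝒰).obj F).homology (p + 1)) := by
  rw [← HomologicalComplex.exactAt_iff_isZero_homology,
    HomologicalComplex.exactAt_iff' _ p (p + 1) (p + 2) (by simp) (by simp)]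
  refine exact_of_local_sections _ fun W s hs y hy => ?_
  obtain ⟨i, hi⟩ := Opens.mem_iSup.1 (h𝒰.ge (Opens.mem_top y))
  refine ⟨W ⊓ 𝒰 i, inf_le_left, ⟨hy, hi⟩, ?_⟩
  let s' := resM (((CechOX.cechSh 𝒰).obj F).X (p + 1)) (inf_le_left : W ⊓ 𝒰 i ≤ W) s
  have hs' : (secF (W ⊓ 𝒰 i)).map (((CechOX.cechSh 𝒰).obj F).d (p + 1) (p + 2)) s' = 0 := by
    refine (app_resM (((CechOX.cechSh 𝒰).obj F).d (p + 1) (p + 2)) (inf_le_left : W ⊓ 𝒰 i ≤ W) s).trans ?_
    exact (congrArg _ hs).trans (map_zero _)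
  obtain ⟨c, hc⟩ := exists_d_eq (famV F (W ⊓ 𝒰 i)) 𝒰 i (bijective_tailPi 𝒰 F _ inf_le_right)
    (toCx 𝒰 F _ (p + 1) s') (by rw [← toCx_d, hs', map_zero])
  obtain ⟨t, rfl⟩ := (bijective_toCx 𝒰 F (W ⊓ 𝒰 i) p).2 c
  exact ⟨t, (bijective_toCx 𝒰 F (W ⊓ 𝒰 i) (p + 1)).1 ((toCx_d 𝒰 F _ p t).trans hc)⟩

end

end Groth.Agent.CechRes
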