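import Groth.Agent.Coherent.ProjSpaceFinite
import Groth.Agent.Coherent.QcohOps
import Groth.Prelude.Def_CechOX

/-!
# Terms of the Cech complex of sheaves are quasi-coherent
-/

set_option autoImplicit false
set_option backward.isDefEq.respectTransparency false
set_option linter.style.haveILetI false

universe u

open CategoryTheory CategoryTheory.Limits AlgebraicGeometry Opposite TopologicalSpace
open Groth.Agent.Coherent

namespace Groth.Agent.CechRes

/-- Finite products of quasi-coherent modules. -/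
theorem isQCoh_pi {X : Scheme.{u}} {α : Type u} [Finite α] (F : α → X.Modules)
    (h : ∀ a, Coh.IsQCoh (F a)) : Coh.IsQCoh (∏ᶜ F) := by
  obtain ⟨n, ⟨e⟩⟩ := Finite.exists_equiv_fin α
  haveI : HasFiniteBiproducts X.Modules := HasFiniteBiproducts.of_hasFiniteProducts
  let G : Fin n → X.Modules := fun i => F (e.symm i)
  haveI := isQCoh_biproduct G fun i => h _
  exact (SheafOfModules.isQuasicoherent X.ringCatSheaf).prop_of_iso
    ((biproduct.isoProduct G) ≪≫ Pi.reindex e.symm F) ‹_›

theorem isQCoh_cech_term {X : Scheme.{u}} [IsAffineHom (pullback.diagonal (terminal.from X))] {ι : Type u}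
    [Finite ι] (𝒰 : ι → X.Opens) (h𝒰 : ∀ i, IsAffineOpen (𝒰 i)) (F : X.Modules) [Coh.IsQCoh F] (p : ℕ) :
    Coh.IsQCoh (((CechOX.cechSh 𝒰).obj F).X p) := by
  haveI : QuasiSeparated (terminal.from X) := ⟨inferInstance⟩
  haveI : QuasiSeparatedSpace X := quasiSeparatedSpace_of_quasiSeparated (terminal.from X)
  refine isQCoh_pi (fun a : Fin (p + 1) → ι => (CechOX.pushRestrFam.flip.obj F).obj (op (∏ᶜ fun k => 𝒰 (a k))))
    fun a => ?_
  let W : X.Opens := ∏ᶜ fun k => 𝒰 (a k)
  have hW : IsAffineOpen W := by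
    have e : W = ⨅ k, 𝒰 (a k) := le_antisymm (le_iInf fun k => leOfHom (Pi.π (fun k => 𝒰 (a k)) k))
      (leOfHom (Pi.lift fun k => homOfLE (iInf_le (fun k => 𝒰 (a k)) k)))
    rw [e]
    exact IsAffineOpen.iInf fun k => h𝒰 (a k)
  haveI : IsAffine W := hW
  haveI : QuasiCompact W.ι := quasiCompact_of_compactSpace _
  haveI : QuasiSeparated W.ι := inferInstance
  haveI : Coh.IsQCoh ((Scheme.Modules.restrictFunctor W.ι).obj F) :=
    Scheme.Modules.isQuasicoherent_restrictFunctor W.ι ‹_›
  exact isQCoh_push W.ι _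

end Groth.Agent.CechRes
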