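import Groth.Agent.SiteCoh.Cech

/-!
# Cech complexes of presheaves on thin categories with an extra degeneracy
-/

set_option autoImplicit false

universe u v

open CategoryTheory CategoryTheory.Limits Opposite
open Groth.Agent.SiteCoh.Cech

namespace Groth.Agent.CechRes

variable {E : Type u} [Category.{v} E] [HasFiniteProducts E] [Quiver.IsThin E]
  (P : Eᵒᵖ ⥤ AddCommGrpCat.{u}) {ι : Type u} (W : ι → E) (i₀ : ι)

/-- The projection forgetting the first index. -/
noncomputable abbrev tailPi {p : ℕ} (a : Fin (p + 1) → ι) :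
    inter W (Fin.cons i₀ a : Fin (p + 2) → ι) ⟶ inter W a :=
  Pi.lift fun k => Pi.π (fun k => W ((Fin.cons i₀ a : Fin (p + 2) → ι) k)) k.succ

/-- A positive degree cocycle is a coboundary, given an extra degeneracy. -/
theorem exists_d_eq (hP : ∀ {p : ℕ} (a : Fin (p + 1) → ι), Function.Bijective (P.map (tailPi W i₀ a).op))
    {p : ℕ} (x : (cx P W).X (p + 1)) (hx : (cx P W).d (p + 1) (p + 2) x = 0) :
    ∃ y : (cx P W).X p, (cx P W).d p (p + 1) y = x := by
  let y : ∀ a : Fin (p + 1) → ι, P.obj (op (inter W a)) := fun a =>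
    ((hP a).2 (ev P W (Fin.cons i₀ a) x)).choose
  have hy : ∀ a, P.map (tailPi W i₀ a).op (y a) = ev P W (Fin.cons i₀ a) x := fun a =>
    ((hP a).2 (ev P W (Fin.cons i₀ a) x)).choose_spec
  refine ⟨mk P W y, ext P W fun b => (hP b).1 ?_⟩
  let Z := inter W (Fin.cons i₀ b : Fin (p + 3) → ι)
  let s₀ : (i : ι) × (Z ⟶ W i) := ⟨i₀, Pi.π (fun k => W ((Fin.cons i₀ b : Fin (p + 3) → ι) k)) 0⟩
  let s : Fin (p + 2) → (i : ι) × (Z ⟶ W i) := fun k =>
    ⟨b k, tailPi W i₀ b ≫ Pi.π (fun k => W (b k)) k⟩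
  have key : ∀ j : Fin (p + 2), P.map (tailPi W i₀ b).op (P.map (face W b j).op (y (b ∘ j.succAbove))) =
      val P W x (Fin.cons s₀ (s ∘ j.succAbove)) := fun j => by
    let m : Z ⟶ inter W (Fin.cons i₀ (b ∘ j.succAbove) : Fin (p + 2) → ι) :=
      Pi.lift (Fin.cases s₀.2 fun k => (s (j.succAbove k)).2)
    have e : tailPi W i₀ b ≫ face W b j = m ≫ tailPi W i₀ (b ∘ j.succAbove) := Subsingleton.elim _ _
    refine ((ConcreteCategory.congr_hom (P.map_comp _ _) _).symm.trans ?_)
    rw [← op_comp, e, op_comp]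
    refine (ConcreteCategory.congr_hom (P.map_comp _ _) _).trans ?_
    refine (congrArg (P.map m.op) (hy _)).trans ((map_ev P W x _ m).trans (congrArg (val P W x) ?_))
    funext k
    cases k using Fin.cases with
    | zero => exact Sigma.ext rfl (heq_of_eq (Subsingleton.elim _ _))
    | succ k => exact Sigma.ext rfl (heq_of_eq (Subsingleton.elim _ _))
  have hc := val_d P W x (Fin.cons s₀ s)
  rw [hx, Fin.sum_univ_succ] at hc
  have hval0 : val P W (0 : (cx P W).X (p + 2)) (Fin.cons s₀ s) = 0 := by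
    rw [val, map_zero, map_zero]
  have e₀ : (Fin.cons s₀ s : Fin (p + 3) → (i : ι) × (Z ⟶ W i)) ∘ (0 : Fin (p + 3)).succAbove = s :=
    funext fun k => by simp
  rw [hval0, e₀, Fin.val_zero, pow_zero, one_zsmul] at hc
  rw [ev_d, map_sum, map_ev P W x b (tailPi W i₀ b)]
  refine Eq.trans ?_ (eq_neg_of_add_eq_zero_left hc.symm).symm
  rw [← Finset.sum_neg_distrib]
  refine Finset.sum_congr rfl fun j _ => ?_
  rw [map_zsmul, ev_mk, key j, Fin.val_succ, pow_succ', neg_one_mul, neg_smul, neg_neg]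
  refine congrArg (fun z => (-1 : ℤ) ^ (j : ℕ) • val P W x z) ?_
  funext k
  cases k using Fin.cases <;> simp

/-- A degree zero cocycle comes from the augmentation. -/
theorem exists_aug_eq (hP : ∀ {p : ℕ} (a : Fin (p + 1) → ι), Function.Bijective (P.map (tailPi W i₀ a).op))
    {A : AddCommGrpCat.{u}} (aug : ∀ {p : ℕ} (a : Fin (p + 1) → ι), A ⟶ P.obj (op (inter W a)))
    (haug : ∀ {p : ℕ} (a : Fin (p + 2) → ι) (j : Fin (p + 2)),
      aug (a ∘ j.succAbove) ≫ P.map (face W a j).op = aug a)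
    (h₀ : Function.Bijective (aug fun _ : Fin 1 => i₀))
    (x : (cx P W).X 0) (hx : (cx P W).d 0 1 x = 0) :
    ∃ t : A, ∀ a : Fin 1 → ι, aug a t = ev P W a x := by
  obtain ⟨t, ht⟩ := h₀.2 (ev P W (fun _ : Fin 1 => i₀) x)
  refine ⟨t, fun a => (hP a).1 ?_⟩
  let b : Fin 2 → ι := Fin.cons i₀ a
  have hb0 : b ∘ (0 : Fin 2).succAbove = a := funext fun k => by simp [b]
  have hb1 : b ∘ (1 : Fin 2).succAbove = fun _ : Fin 1 => i₀ := funext fun k => by
    fin_cases k
    simp [b]
  have h := congrArg (ev P W b) hx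
  rw [ev_d, map_zero, Fin.sum_univ_two] at h
  simp only [Fin.val_zero, pow_zero, one_zsmul, Fin.val_one, pow_one, neg_smul, one_smul] at h
  rw [← sub_eq_add_neg, sub_eq_zero] at h
  have e1 : P.map (face W b 1).op (ev P W (b ∘ (1 : Fin 2).succAbove) x) = aug b t := by
    have : ∀ c : Fin 1 → ι, c = (fun _ => i₀) → ev P W c x = aug c t := fun c hc => by subst hc; exact ht.symm
    rw [this _ hb1]
    exact ConcreteCategory.congr_hom (haug b 1) t
  have e0 : aug b t = P.map (face W b 0).op (aug (b ∘ (0 : Fin 2).succAbove) t) :=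
    (ConcreteCategory.congr_hom (haug b 0) t).symm
  rw [e1, e0] at h
  have : ∀ (c : Fin 1 → ι) (u : inter W b ⟶ inter W c), c = a →
      P.map u.op (aug c t) = P.map u.op (ev P W c x) →
      P.map (tailPi W i₀ a).op (aug a t) = P.map (tailPi W i₀ a).op (ev P W a x) := fun c u hc hu => by
    subst hc
    rwa [show tailPi W i₀ c = u from Subsingleton.elim _ _]
  exact this _ _ hb0 h.symm

end Groth.Agent.CechRes
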